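import Cfsg.Agent.Lib.Perm.Regular
import Cfsg.Agent.Lib.Golay.SimpleCriteria
import Cfsg.Agent.Lib.CharApp.Burnside

/-!
# Simplicity from a simple point stabiliser and a coatom

* `stabilizer_coatom_of_classes` : maximality from an invariant classification of the orbit
* `eq_top_or_regular` : normal subgroups of a primitive group with simple point stabiliser
* `exists_characteristic_of_sylow`, `exists_characteristic_of_two_primes`
* `isSimpleGroup_of_simple_coatom`
-/

set_option autoImplicit false

namespace Cfsg.Agent.SimpleStab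

open MulAction
open scoped commutatorElement

variable {G : Type*} [Group G] [Finite G]

/-- A normal subgroup of a primitive group with simple point stabiliser is everything or regular. -/
theorem eq_top_or_regular {X : Type*} [MulAction G X] [FaithfulSMul G X] [IsPreprimitive G X]
    (a : X) [IsSimpleGroup (stabilizer G a)] {N : Subgroup G} [hN : N.Normal] (hne : N ≠ ⊥) :
    N = ⊤ ∨ Nat.card N = Nat.card X := by
  have hX : Nonempty X := ⟨a⟩
  have hNt := Perm.isPretransitive_of_normal_ne_bot (X := X) hne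
  have hnorm : (N.subgroupOf (stabilizer G a)).Normal := Subgroup.Normal.subgroupOf hN _
  rcases hnorm.eq_bot_or_eq_top with h | h
  · refine Or.inr (Perm.card_eq_of_regular hNt fun x => ?_)
    rw [Subgroup.eq_bot_iff_forall]
    intro n hn
    obtain ⟨g, hg⟩ := MulAction.exists_smul_eq G x a
    have hc : g * (n : G) * g⁻¹ ∈ stabilizer G a := by
      rw [mem_stabilizer_iff, ← hg, mul_smul, mul_smul, inv_smul_smul]
      congr 1
    have := (Subgroup.eq_bot_iff_forall _).mp h ⟨_, hc⟩
      (Subgroup.mem_subgroupOf.mpr (hN.conj_mem _ n.2 g))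
    have h1 : g * (n : G) * g⁻¹ = 1 := congrArg Subtype.val this
    exact Subtype.ext (by simpa using conj_eq_one_iff.mp h1)
  · refine Or.inl ?_
    rw [Subgroup.subgroupOf_eq_top] at h
    rw [eq_top_iff]
    intro g _
    obtain ⟨⟨n, hn⟩, hna⟩ := MulAction.exists_smul_eq N a (g • a)
    have : n⁻¹ * g ∈ stabilizer G a := by
      rw [mem_stabilizer_iff, mul_smul, inv_smul_eq_iff]
      exact hna.symm
    have := N.mul_mem hn (h this)
    rwa [mul_inv_cancel_left] at this

/-- A Sylow subgroup whose number must be one is characteristic. -/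
theorem exists_characteristic_of_sylow {N : Type*} [Group N] [Finite N] (p : ℕ) [Fact p.Prime]
    (hp : p ∣ Nat.card N) (hlt : ¬∃ k, Nat.card N = p ^ k)
    (h1 : ∀ d, d ∣ Nat.card N → d % p = 1 → d = 1) :
    ∃ K : Subgroup N, K.Characteristic ∧ K ≠ ⊥ ∧ K ≠ ⊤ := by
  obtain ⟨P⟩ : Nonempty (Sylow p N) := Sylow.nonempty
  have hc : Nat.card (Sylow p N) = 1 :=
    h1 _ (P.card_dvd_index.trans (Subgroup.index_dvd_card _))
      (by rw [card_sylow_modEq_one p N, Nat.mod_eq_of_lt (Fact.out : p.Prime).one_lt])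
  have : Subsingleton (Sylow p N) := (Nat.card_eq_one_iff_unique.1 hc).1
  obtain ⟨k, hk⟩ := P.2.exists_card_eq
  refine ⟨P, Sylow.characteristic_of_subsingleton P, fun e => ?_, fun e => hlt ⟨k, ?_⟩⟩
  · have := P.dvd_card_of_dvd_card hp
    rw [e, Subgroup.card_bot, Nat.dvd_one] at this
    exact (Fact.out : p.Prime).ne_one this
  · rw [← hk, e, Subgroup.card_top]

/-- A group of order `p ^ a * q ^ b` is not characteristically simple. -/
theorem exists_characteristic_of_two_primes {N : Type*} [Group N] [Finite N] {p q a b : ℕ}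
    (hp : p.Prime) (hq : q.Prime) (hpq : p ≠ q) (ha : a ≠ 0) (hb : b ≠ 0)
    (hcard : Nat.card N = p ^ a * q ^ b) :
    ∃ K : Subgroup N, K.Characteristic ∧ K ≠ ⊥ ∧ K ≠ ⊤ := by
  have hpd : p ∣ Nat.card N := hcard ▸ (dvd_pow_self p ha).mul_right _
  have hqd : q ∣ Nat.card N := hcard ▸ (dvd_pow_self q hb).mul_left _
  have : Fact p.Prime := ⟨hp⟩
  have : Nontrivial N := Finite.one_lt_card_iff_nontrivial.1
    (lt_of_lt_of_le hp.one_lt (Nat.le_of_dvd Nat.card_pos hpd))
  have := CharApp.isSolvable_of_card_eq_prime_pow_mul p q hp hq _ N rfl a b hcard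
  have hlt := IsSolvable.commutator_lt_top_of_nontrivial (G := N)
  by_cases hbot : commutator N = ⊥
  · obtain ⟨P⟩ : Nonempty (Sylow p N) := Sylow.nonempty
    have hnorm : (P : Subgroup N).Normal := ⟨fun x hx g => by
      have h1 : ⁅g, x⁆ = 1 := by
        rw [← Subgroup.mem_bot, ← hbot]
        exact Subgroup.commutator_mem_commutator (Subgroup.mem_top g) (Subgroup.mem_top x)
      rw [commutatorElement_eq_one_iff_mul_comm] at h1
      rw [h1, mul_inv_cancel_right]
      exact hx⟩
    refine ⟨P, P.characteristic_of_normal hnorm, fun e => ?_, fun e => ?_⟩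
    · have := P.dvd_card_of_dvd_card hpd
      rw [e, Subgroup.card_bot, Nat.dvd_one] at this
      exact hp.ne_one this
    · obtain ⟨k, hk⟩ := P.2.exists_card_eq
      rw [e, Subgroup.card_top] at hk
      have := hq.dvd_of_dvd_pow (hk ▸ hqd)
      exact hpq ((Nat.prime_dvd_prime_iff_eq hq hp).1 this).symm
  · exact ⟨commutator N, Subgroup.commutator_characteristic _ _, hbot, hlt.ne⟩

/-- A group with a simple maximal subgroup of trivial core whose index is not the order of a
characteristically simple group is simple. -/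
theorem isSimpleGroup_of_simple_coatom (H : Subgroup G) (hH : IsCoatom H) [IsSimpleGroup H]
    (hcore : H.normalCore = ⊥) (n : ℕ) (hn : H.index = n)
    (hchar : ∀ N : Subgroup G, Nat.card N = n →
      ∃ K : Subgroup N, K.Characteristic ∧ K ≠ ⊥ ∧ K ≠ ⊤) :
    IsSimpleGroup G := by
  have hnt : Nontrivial (G ⧸ H) := QuotientGroup.nontrivial_iff.2 hH.1
  have hst : stabilizer G (QuotientGroup.mk 1 : G ⧸ H) = H := MulAction.stabilizer_quotient H
  have hprim : IsPreprimitive G (G ⧸ H) :=
    (isCoatom_stabilizer_iff_preprimitive (G := G) (X := G ⧸ H) (QuotientGroup.mk 1 : G ⧸ H)).1 (hst.symm ▸ hH)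
  have : FaithfulSMul G (G ⧸ H) := by
    refine ⟨fun {g h} e => ?_⟩
    have hmem : g⁻¹ * h ∈ (MulAction.toPermHom G (G ⧸ H)).ker := by
      rw [MonoidHom.mem_ker]
      refine Equiv.ext fun x => ?_
      show (g⁻¹ * h) • x = x
      rw [mul_smul, ← e x, inv_smul_smul]
    rw [← Subgroup.normalCore_eq_ker, hcore, Subgroup.mem_bot, inv_mul_eq_one] at hmem
    exact hmem
  have hsimp : IsSimpleGroup (stabilizer G (QuotientGroup.mk 1 : G ⧸ H)) :=
    (MulEquiv.subgroupCongr hst).isSimpleGroup
  have hG : Nontrivial G := by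
    obtain ⟨x, hx⟩ := exists_ne (1 : H)
    exact ⟨⟨x, 1, fun h => hx (Subtype.ext h)⟩⟩
  refine ⟨fun N hN => ?_⟩
  by_cases hne : N = ⊥
  · exact Or.inl hne
  rcases eq_top_or_regular (QuotientGroup.mk 1 : G ⧸ H) (N := N) hne with h | h
  · exact Or.inr h
  exfalso
  have hcard : Nat.card N = n := by rw [h, ← hn]; rfl
  obtain ⟨K, hK, hK1, hK2⟩ := hchar N hcard
  have hKne : K.map N.subtype ≠ ⊥ := by
    rwa [ne_eq, Subgroup.map_eq_bot_iff_of_injective _ N.subtype_injective]
  have : (K.map N.subtype).Normal := ConjAct.normal_of_characteristic_of_normal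
  have hd := Golay.card_dvd_of_pretransitive (K.map N.subtype)
    (Perm.isPretransitive_of_normal_ne_bot (X := G ⧸ H) hKne)
  rw [Subgroup.card_map_of_injective N.subtype_injective, show Nat.card (G ⧸ H) = n from hn,
    ← hcard] at hd
  exact hK2 (Subgroup.eq_top_of_card_eq K (Nat.dvd_antisymm (Subgroup.card_subgroup_dvd_card K) hd))

end Cfsg.Agent.SimpleStab
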